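import Groth.Agent.Synt29.SmoothDim
import Groth.Agent.SmoothDim.Basic
import Groth.Agent.VarDim.Top
import Groth.Agent.SchTop.Closed

/-! A smooth integral scheme over a field is smooth of relative dimension its dimension. -/

set_option autoImplicit false

universe u

open CategoryTheory CategoryTheory.Limits AlgebraicGeometry TopologicalSpace

namespace Groth.Agent.CurveFin

variable {k : Type u} [Field k] {X : Scheme.{u}} (f : X ⟶ Spec (CommRingCat.of k))

theorem ringKrullDim_affine_eq [IrreducibleSpace X] [LocallyOfFiniteType f] {V : X.Opens}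
    (hV : IsAffineOpen V) (hne : (V : Set X).Nonempty) :
    ringKrullDim Γ(X, V) = topologicalKrullDim X := by
  have h1 : topologicalKrullDim (V : Set X) = ringKrullDim Γ(X, V) := by
    rw [← PrimeSpectrum.topologicalKrullDim_eq_ringKrullDim]
    exact hV.isoSpec.hom.homeomorph.isHomeomorph.topologicalKrullDim_eq
  rw [← h1, VarDim.topologicalKrullDim_opens_eq_iSup_deg f,
    VarDim.topologicalKrullDim_eq_deg_genericPoint f]
  refine le_antisymm (iSup_le fun z => ?_) ?_
  · exact_mod_cast VarDim.deg_le_of_specializes f (genericPoint_specializes z.1)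
  · exact le_iSup_of_le ⟨genericPoint X, (genericPoint_spec X).mem_open_set_iff V.2 |>.2
      (by simpa using hne)⟩ le_rfl

theorem smoothOfRelativeDimension_of_dim [IsIntegral X] [Smooth f] {d : ℕ}
    (hd : topologicalKrullDim X = d) : SmoothOfRelativeDimension d f := by
  have key : ∀ x : X, ∃ V : X.Opens, x ∈ V ∧ SmoothOfRelativeDimension d (V.ι ≫ f) := by
    intro x
    obtain ⟨U, hU, V, hV, e, n, hxV, h, hs, -⟩ := Synt29.SmoothDim.exists_chart f x
    refine ⟨V, hxV, ?_⟩
    suffices hn : n = d by subst hn; exact hs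
    have hUt : U = ⊤ := top_le_iff.1 fun p _ => by
      rw [Subsingleton.elim p (f x)]; exact e hxV
    subst hUt
    let ψ := (Scheme.ΓSpecIso (CommRingCat.of k)).inv ≫ f.appLE ⊤ V e
    have h' : RingHom.IsStandardSmoothOfRelativeDimension n ψ.hom :=
      RingHom.isStandardSmoothOfRelativeDimension_respectsIso.2 _
        (Scheme.ΓSpecIso (CommRingCat.of k)).symm.commRingCatIsoToRingEquiv h
    let _ := ψ.hom.toAlgebra
    have : Algebra.IsStandardSmoothOfRelativeDimension n k Γ(X, V) := h'
    have : Nonempty V := ⟨⟨x, hxV⟩⟩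
    have h2 := SmoothDim.ringKrullDim_eq k Γ(X, V) n
    rw [ringKrullDim_affine_eq f hV ⟨x, hxV⟩, hd] at h2
    exact_mod_cast h2.symm
  choose V hxV hV using key
  exact IsZariskiLocalAtSource.of_iSup_eq_top (P := @SmoothOfRelativeDimension d) V
    (top_le_iff.1 fun x _ => Opens.mem_iSup.2 ⟨x, hxV x⟩) hV

end Groth.Agent.CurveFin
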