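import Groth.Agent.CurveFin.Integral
import Groth.Agent.S7662

/-!
# Finite sets of one-dimensional points of a separated scheme lie in an affine open
-/

set_option autoImplicit false
set_option backward.isDefEq.respectTransparency false
set_option linter.style.haveILetI false

universe u
open CategoryTheory CategoryTheory.Limits AlgebraicGeometry TopologicalSpace IsLocalRing

namespace Groth.Agent.CurveFin

theorem isSeparated_of_mono {X Y : Scheme.{u}} [X.IsSeparated] (j : Y ⟶ X) [Mono j] : Y.IsSeparated := by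
  constructor
  rw [show terminal.from Y = j ≫ terminal.from X from terminal.hom_ext _ _]
  haveI : IsSeparated (terminal.from X) := Scheme.IsSeparated.isSeparated_terminal_from
  infer_instance

/-- Finite sets of points with Noetherian local rings of dimension at most one lie in an affine open. -/
theorem exists_affineOpen_of_finite (X : Scheme.{u}) [X.IsSeparated]
    (hirr : ∀ U : X.Opens, IsCompact (U : Set X) → (irreducibleComponents (U : Set X)).Finite)
    (s : Finset X) (hs : ∀ x ∈ s, IsNoetherianRing (X.presheaf.stalk x) ∧ ringKrullDim (X.presheaf.stalk x) ≤ 1) :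
    ∃ U : X.Opens, IsAffineOpen U ∧ ∀ x ∈ s, x ∈ U := by
  classical
  have hV : ∀ x : X, ∃ V : X.Opens, IsAffineOpen V ∧ x ∈ V := fun x => by
    obtain ⟨V, hV, hxV, -⟩ := exists_isAffineOpen_mem_and_subset (x := x) (U := ⊤) trivial
    exact ⟨V, hV, hxV⟩
  choose V hVa hxV using hV
  let O : X.Opens := s.sup V
  have hO : IsCompact (O : Set X) := by
    have : (O : Set X) = ⋃ x ∈ s, (V x : Set X) := by
      simp [O, Finset.sup_eq_iSup]
    rw [this]
    exact s.isCompact_biUnion fun x _ => (hVa x).isCompact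
  have hsO : ∀ x ∈ s, x ∈ O := fun x hx => (Finset.le_sup (f := V) hx) (hxV x)
  haveI := isSeparated_of_mono O.ι
  let T : Finset (O : Scheme.{u}) := s.attach.image fun x => ⟨x.1, hsO x.1 x.2⟩
  have hT : ∀ t ∈ T, O.ι t ∈ s := fun t ht => by
    obtain ⟨x, -, rfl⟩ := Finset.mem_image.1 ht
    exact x.2
  obtain ⟨W, hW, hTW⟩ := S7662.result (O : Scheme.{u}) (hirr O hO) T fun Z hZ => by
    let Y : Closeds (O : Scheme.{u}) := ⟨Z, isClosed_of_mem_irreducibleComponents Z hZ⟩
    let j := (Scheme.IdealSheafData.vanishingIdeal Y).subschemeι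
    have hrange : Set.range j = Z := H23.RedSub.range_vanishingIdeal Y
    haveI : IsReduced (Scheme.IdealSheafData.vanishingIdeal Y).subscheme := H23.RedSub.isReduced_vanishingIdeal Y
    haveI : IrreducibleSpace ↥(Scheme.IdealSheafData.vanishingIdeal Y).subscheme := by
      haveI : IrreducibleSpace ↥(Set.range j) := by
        rw [hrange]; exact Subtype.irreducibleSpace hZ.1
      exact j.isClosedEmbedding.isEmbedding.toHomeomorph.symm.surjective.irreducibleSpace
        j.isClosedEmbedding.isEmbedding.toHomeomorph.symm.continuous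
    haveI : IsIntegral (Scheme.IdealSheafData.vanishingIdeal Y).subscheme :=
      isIntegral_of_irreducibleSpace_of_isReduced _
    haveI := isSeparated_of_mono j
    have hinj : Set.InjOn j (j ⁻¹' ↑T) := j.isClosedEmbedding.injective.injOn
    obtain ⟨U, hU, hTU⟩ := exists_affineOpen_of_isIntegral _ (T.preimage j hinj) fun y hy => by
      have h1 := hs _ (hT _ (Finset.mem_preimage.1 hy))
      have hsurj : Function.Surjective ((j ≫ O.ι).stalkMap y) := (j ≫ O.ι).stalkMap_surjective y
      haveI : IsNoetherianRing (X.presheaf.stalk ((j ≫ O.ι) y)) := h1.1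
      exact ⟨isNoetherianRing_of_surjective _ _ ((j ≫ O.ι).stalkMap y).hom hsurj,
        (ringKrullDim_le_of_surjective ((j ≫ O.ι).stalkMap y).hom hsurj).trans h1.2⟩
    refine ⟨U, hU, fun t ht htZ => ?_⟩
    obtain ⟨y, rfl⟩ : t ∈ Set.range j := hrange ▸ htZ
    exact ⟨y, hTU y (Finset.mem_preimage.2 ht), rfl⟩
  refine ⟨O.ι ''ᵁ W, hW.image_of_isOpenImmersion O.ι, fun x hx => ?_⟩
  exact ⟨⟨x, hsO x hx⟩, hTW _ (Finset.mem_image.2 ⟨⟨x, hx⟩, Finset.mem_attach _ _, rfl⟩), rfl⟩

end Groth.Agent.CurveFin
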