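import Groth.Agent.S7660
import Groth.Agent.S7663
import Groth.Agent.S7665
import Mathlib.AlgebraicGeometry.FunctionField
import Mathlib.AlgebraicGeometry.Morphisms.Separated

/-!
# Finite sets of one-dimensional points of an integral separated scheme lie in an affine open
-/

set_option autoImplicit false
set_option backward.isDefEq.respectTransparency false
set_option linter.style.haveILetI false

universe u
open CategoryTheory CategoryTheory.Limits AlgebraicGeometry TopologicalSpace IsLocalRing

namespace Groth.Agent.CurveFin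

variable {X : Scheme.{u}} [IsIntegral X]

/-- The local ring of a point inside the function field. -/
noncomputable def localSubring (x : X) : Subring X.functionField :=
  (algebraMap (X.presheaf.stalk x) X.functionField).range

/-- The local ring is isomorphic to its image. -/
noncomputable def stalkEquiv (x : X) : X.presheaf.stalk x ≃+* localSubring x :=
  RingEquiv.ofBijective (algebraMap (X.presheaf.stalk x) X.functionField).rangeRestrict
    ⟨fun _ _ h => IsFractionRing.injective (X.presheaf.stalk x) X.functionField (congrArg Subtype.val h),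
      RingHom.rangeRestrict_surjective _⟩

theorem isFractionRing_localSubring (x : X) : IsFractionRing (localSubring x) X.functionField := by
  refine IsFractionRing.of_field _ _ fun z => ?_
  obtain ⟨p, q, -, rfl⟩ := IsFractionRing.div_surjective (A := X.presheaf.stalk x) z
  exact ⟨⟨_, p, rfl⟩, ⟨_, q, rfl⟩, rfl⟩

/-- The morphism from the local ring inside the function field. -/
noncomputable def fromLocal (x : X) : Spec (CommRingCat.of (localSubring x)) ⟶ X :=
  Spec.map (stalkEquiv x).toCommRingCatIso.hom ≫ X.fromSpecStalk x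

theorem subtype_fromLocal (x : X) :
    Spec.map (CommRingCat.ofHom (localSubring x).subtype) ≫ fromLocal x = X.fromSpecStalk (genericPoint X) := by
  rw [fromLocal, ← Spec.map_comp_assoc,
    ← Scheme.SpecMap_stalkSpecializes_fromSpecStalk ((genericPoint_spec X).specializes (trivial : x ∈ Set.univ))]
  rfl

theorem range_fromLocal (x : X) : Set.range (fromLocal x) = {y | y ⤳ x} := by
  rw [← Scheme.range_fromSpecStalk, fromLocal]
  ext y
  constructor
  · rintro ⟨z, rfl⟩; exact ⟨_, rfl⟩
  · rintro ⟨z, rfl⟩
    obtain ⟨w, rfl⟩ := (Spec.map (stalkEquiv x).toCommRingCatIso.hom).surjective z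
    exact ⟨w, rfl⟩

theorem exists_closedPoint_isIso_stalkMap (x : X) :
    ∃ p : Spec (CommRingCat.of (localSubring x)), fromLocal x p = x ∧ IsIso ((fromLocal x).stalkMap p) := by
  let i := Spec.map (stalkEquiv x).toCommRingCatIso.hom
  have hcp : IsIso ((X.fromSpecStalk x).stalkMap (closedPoint (X.presheaf.stalk x))) := by
    have h : IsIso ((X.fromSpecStalk x).stalkMap (closedPoint (X.presheaf.stalk x)) ≫
        (stalkClosedPointIso (X.presheaf.stalk x)).hom) := by
      show IsIso (Scheme.stalkClosedPointTo (X.fromSpecStalk x))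
      rw [Scheme.stalkClosedPointTo_fromSpecStalk]
      infer_instance
    exact IsIso.of_isIso_comp_right _ (stalkClosedPointIso (X.presheaf.stalk x)).hom
  obtain ⟨p, hp⟩ := i.surjective (closedPoint (X.presheaf.stalk x))
  refine ⟨p, ?_, ?_⟩
  · show X.fromSpecStalk x (i p) = x
    rw [hp, Scheme.fromSpecStalk_closedPoint]
  · rw [← hp] at hcp
    show IsIso ((i ≫ X.fromSpecStalk x).stalkMap p)
    rw [Scheme.Hom.stalkMap_comp]
    haveI : IsIso (i.stalkMap p) := inferInstance
    exact IsIso.comp_isIso' hcp inferInstance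

theorem fromLocal_apply_of_isMaximal (x : X) (p : Spec (CommRingCat.of (localSubring x)))
    (hp : p.asIdeal.IsMaximal) : fromLocal x p = x := by
  have : Spec.map (stalkEquiv x).toCommRingCatIso.hom p = closedPoint (X.presheaf.stalk x) :=
    PrimeSpectrum.ext (IsLocalRing.eq_maximalIdeal
      (Ideal.comap_isMaximal_of_surjective (stalkEquiv x).toRingHom (stalkEquiv x).surjective (K := p.asIdeal)))
  show X.fromSpecStalk x (Spec.map (stalkEquiv x).toCommRingCatIso.hom p) = x
  rw [this, Scheme.fromSpecStalk_closedPoint]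

theorem ringKrullDim_localSubring {x : X} (hx : x ≠ genericPoint X)
    (hdim : ringKrullDim (X.presheaf.stalk x) ≤ 1) : ringKrullDim (localSubring x) = 1 := by
  rw [← ringKrullDim_eq_of_ringEquiv (stalkEquiv x)]
  refine le_antisymm hdim ?_
  by_contra hlt
  haveI : Ring.KrullDimLE 0 (X.presheaf.stalk x) := by
    rw [Ring.krullDimLE_iff]
    generalize ringKrullDim (X.presheaf.stalk x) = D at hlt ⊢
    induction D with
    | bot => exact bot_le
    | coe n =>
      induction n with
      | top => exact absurd (WithBot.coe_le_coe.2 le_top) hlt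
      | coe m =>
        have : m = 0 := by
          by_contra hm
          exact hlt (WithBot.coe_le_coe.2 (ENat.coe_le_coe.2 (Nat.one_le_iff_ne_zero.2 hm)))
        subst this
        exact le_rfl
  obtain ⟨hfield⟩ : Nonempty (IsField (X.presheaf.stalk x)) := ⟨Ring.KrullDimLE.isField_of_isDomain⟩
  letI := hfield.toField
  obtain ⟨z, hz⟩ : genericPoint X ∈ Set.range (X.fromSpecStalk x) := by
    rw [Scheme.range_fromSpecStalk]
    exact (genericPoint_spec X).specializes trivial
  have : z = closedPoint (X.presheaf.stalk x) := Subsingleton.elim (α := PrimeSpectrum (X.presheaf.stalk x)) _ _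
  rw [this, Scheme.fromSpecStalk_closedPoint] at hz
  exact hx hz

/-- Local rings of distinct non-generic points generate the function field. -/
theorem sup_eq_top [X.IsSeparated] {x y : X} (hxy : x ≠ y) [IsNoetherianRing (X.presheaf.stalk x)]
    (hx : ringKrullDim (localSubring x) = 1) (hy : ringKrullDim (localSubring y) = 1) :
    localSubring x ⊔ localSubring y = ⊤ := by
  haveI := isFractionRing_localSubring x
  haveI := isFractionRing_localSubring y
  haveI : IsNoetherianRing (localSubring x) := isNoetherianRing_of_ringEquiv _ (stalkEquiv x)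
  by_contra hne
  obtain ⟨O, hO, h1, h2⟩ := (S7663.result X.functionField _ (localSubring y) hx).1 hne
  let gx : Spec (CommRingCat.of O.toSubring) ⟶ X :=
    Spec.map (CommRingCat.ofHom (Subring.inclusion h1)) ≫ fromLocal x
  let gy : Spec (CommRingCat.of O.toSubring) ⟶ X :=
    Spec.map (CommRingCat.ofHom (Subring.inclusion h2)) ≫ fromLocal y
  haveI : IsDominant (Spec.map (CommRingCat.ofHom O.toSubring.subtype)) :=
    ⟨(PrimeSpectrum.denseRange_comap_iff_ker_le_nilRadical (f := O.toSubring.subtype)).2 (by
      rw [(RingHom.injective_iff_ker_eq_bot _).1 (Subtype.val_injective : Function.Injective O.toSubring.subtype)]; exact bot_le)⟩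
  have he : gx = gy := by
    refine ext_of_isDominant (Spec.map (CommRingCat.ofHom O.toSubring.subtype)) ?_
    simp only [gx, gy, ← Spec.map_comp_assoc, ← CommRingCat.ofHom_comp]
    exact (subtype_fromLocal x).trans (subtype_fromLocal y).symm
  have hclosed : ∀ (z : X) (hz : localSubring z ≤ O.toSubring) (hdim : ringKrullDim (localSubring z) = 1),
      (Spec.map (CommRingCat.ofHom (Subring.inclusion hz)) ≫ fromLocal z)
        ⟨maximalIdeal O, (maximalIdeal.isMaximal O).isPrime⟩ = z := by
    intro z hz hdim
    haveI := isFractionRing_localSubring z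
    haveI := KrullAki.krullDimLE_one_of_dim_eq_one hdim
    have hOtop : O ≠ ⊤ := fun h => IsDiscreteValuationRing.not_isField O (by
      refine ⟨⟨0, 1, zero_ne_one⟩, mul_comm, fun {a} ha => ⟨⟨(a : X.functionField)⁻¹, (SetLike.ext_iff.1 h _).2 trivial⟩,
        Subtype.ext (mul_inv_cancel₀ fun h0 => ha (Subtype.ext h0))⟩⟩)
    exact fromLocal_apply_of_isMaximal z _ (KrullAki.comapIdeal_isMaximal hz hOtop)
  have := hclosed x h1 hx
  rw [show Spec.map (CommRingCat.ofHom (Subring.inclusion h1)) ≫ fromLocal x = gy from he] at this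
  exact hxy (this.symm.trans (hclosed y h2 hy))

/-- A finite set of one-dimensional points of an integral separated scheme lies in an affine open. -/
theorem exists_affineOpen_of_isIntegral (X : Scheme.{u}) [IsIntegral X] [X.IsSeparated] (s : Finset X)
    (hs : ∀ x ∈ s, IsNoetherianRing (X.presheaf.stalk x) ∧ ringKrullDim (X.presheaf.stalk x) ≤ 1) :
    ∃ U : X.Opens, IsAffineOpen U ∧ ∀ x ∈ s, x ∈ U := by
  classical
  have hgen : ∀ U : X.Opens, (U : Set X).Nonempty → genericPoint X ∈ U := fun U hU =>
    ((genericPoint_spec X).mem_open_set_iff U.isOpen).2 (by simpa using hU)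
  let s' := s.erase (genericPoint X)
  rcases s'.eq_empty_or_nonempty with he | hne
  · obtain ⟨U, hU, hxU, -⟩ := exists_isAffineOpen_mem_and_subset (x := genericPoint X) (U := ⊤) trivial
    refine ⟨U, hU, fun x hx => ?_⟩
    have : x = genericPoint X := by
      by_contra hne'
      exact Finset.notMem_empty x (he ▸ Finset.mem_erase.2 ⟨hne', hx⟩)
    exact this ▸ hxU
  let r := s'.card
  let pt : Fin r → X := fun i => (s'.equivFin.symm i).1
  have hpt : ∀ i, pt i ∈ s ∧ pt i ≠ genericPoint X := fun i =>
    ⟨Finset.mem_of_mem_erase (s'.equivFin.symm i).2, Finset.ne_of_mem_erase (s'.equivFin.symm i).2⟩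
  have hinj : Function.Injective pt := fun i j h => s'.equivFin.symm.injective (Subtype.ext h)
  let A : Fin r → Subring X.functionField := fun i => localSubring (pt i)
  haveI : ∀ i, IsNoetherianRing (A i) := fun i =>
    have := (hs _ (hpt i).1).1
    isNoetherianRing_of_ringEquiv _ (stalkEquiv (pt i))
  haveI : ∀ i, IsFractionRing (A i) X.functionField := fun i => isFractionRing_localSubring (pt i)
  have hdim : ∀ i, ringKrullDim (A i) = 1 := fun i => ringKrullDim_localSubring (hpt i).2 (hs _ (hpt i).1).2
  have hsl : ∀ i, Finite (MaximalSpectrum (A i)) := fun i =>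
    haveI : IsLocalRing (A i) := (stalkEquiv (pt i)).isLocalRing
    inferInstance
  have hgenK : ∀ i j, i ≠ j → A i ⊔ A j = ⊤ := fun i j hij =>
    haveI := (hs _ (hpt i).1).1
    sup_eq_top (fun h => hij (hinj h)) (hdim i) (hdim j)
  obtain ⟨-, -, -, hfrac, hopen, hcover, -⟩ :=
    S7665.result X.functionField r hne.card_pos A hdim hsl hgenK
  haveI := hopen
  let C := Spec (CommRingCat.of ↥(⨅ i, A i))
  let 𝒰 : Scheme.OpenCover.{u} C := Scheme.Cover.mkOfCovers (ULift.{u} (Fin r))
    (fun i => Spec (CommRingCat.of (A i.down)))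
    (fun i => Spec.map (CommRingCat.ofHom (Subring.inclusion (iInf_le A i.down))))
    (fun x => by
      obtain ⟨_, ⟨i, rfl⟩, y, hy⟩ := hcover.symm ▸ Set.mem_univ x
      exact ⟨⟨i⟩, y, hy⟩)
    (fun i => hopen i.down)
  let toC := Spec.map (CommRingCat.ofHom (⨅ i, A i).subtype)
  haveI : IsDominant toC :=
    ⟨(PrimeSpectrum.denseRange_comap_iff_ker_le_nilRadical (f := (⨅ i, A i).subtype)).2 (by
      rw [(RingHom.injective_iff_ker_eq_bot _).1 (Subtype.val_injective : Function.Injective (⨅ i, A i).subtype)]
      exact bot_le)⟩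
  haveI : IsIntegral C := inferInstance
  have hk : ∀ k : ULift.{u} (Fin r),
      Spec.map (CommRingCat.ofHom (A k.down).subtype) ≫ 𝒰.f k = toC := fun k => by
    show Spec.map _ ≫ Spec.map _ = Spec.map _
    rw [← Spec.map_comp, ← CommRingCat.ofHom_comp]
    rfl
  have hcompat : ∀ a b : ULift.{u} (Fin r),
      pullback.fst (𝒰.f a) (𝒰.f b) ≫ fromLocal (pt a.down) = pullback.snd (𝒰.f a) (𝒰.f b) ≫ fromLocal (pt b.down) := by
    intro a b
    let g := pullback.fst (𝒰.f a) (𝒰.f b) ≫ 𝒰.f a
    let ι := pullback.lift _ _ ((hk a).trans (hk b).symm)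
    have hι : ι ≫ g = toC := by rw [pullback.lift_fst_assoc, hk]
    haveI : Nonempty ↥(pullback (𝒰.f a) (𝒰.f b)) := ⟨ι (Classical.arbitrary _)⟩
    haveI : IsOpenImmersion g := inferInstance
    haveI : IsReduced (pullback (𝒰.f a) (𝒰.f b)) := isReduced_of_isOpenImmersion g
    haveI : IsDominant ι := by
      refine ⟨fun p => ?_⟩
      rw [g.isOpenEmbedding.isInducing.closure_eq_preimage_closure_image]
      show g p ∈ closure (g '' Set.range ι)
      rw [← Set.range_comp, show (⇑g ∘ ⇑ι) = ⇑toC by rw [← hι]; rfl]
      exact (IsDominant.denseRange (f := toC)) _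
    refine ext_of_isDominant ι ?_
    rw [pullback.lift_fst_assoc, pullback.lift_snd_assoc, subtype_fromLocal, subtype_fromLocal]
  let φ : C ⟶ X := 𝒰.glueMorphisms _ hcompat
  have hφ : ∀ k, 𝒰.f k ≫ φ = fromLocal (pt k.down) := fun k => 𝒰.ι_glueMorphisms _ hcompat k
  have hpoints : ∀ k : ULift.{u} (Fin r), ∃ t : C, φ t = pt k.down ∧ IsIso (φ.stalkMap t) := fun k => by
    obtain ⟨p, hp, hiso⟩ := exists_closedPoint_isIso_stalkMap (pt k.down)
    refine ⟨𝒰.f k p, ?_, ?_⟩
    · rw [← Scheme.Hom.comp_apply, hφ]
      exact hp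
    · have h1 : IsIso ((𝒰.f k ≫ φ).stalkMap p) := by rw [hφ]; exact hiso
      rw [Scheme.Hom.stalkMap_comp] at h1
      exact IsIso.of_isIso_comp_right (φ.stalkMap _) ((𝒰.f k).stalkMap p)
  choose t ht htiso using hpoints
  have hgenC : ∀ η : C, closure ({η} : Set C) ∈ irreducibleComponents (C : Type u) → η = genericPoint C := by
    intro η hη
    rw [irreducibleComponents_eq_singleton, Set.mem_singleton_iff] at hη
    exact ((genericPoint_spec C).eq (show IsGenericPoint η Set.univ from hη)).symm
  have hφgen : φ (genericPoint C) = genericPoint X := by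
    have hd : genericPoint C ∈ Set.range toC := by
      refine ⟨closedPoint X.functionField, ?_⟩
      rw [genericPoint_eq_bot_of_affine]
      refine PrimeSpectrum.ext ?_
      show (IsLocalRing.maximalIdeal X.functionField).comap _ = ⊥
      rw [IsLocalRing.maximalIdeal_eq_bot]
      exact (RingHom.injective_iff_ker_eq_bot _).1 Subtype.val_injective
    obtain ⟨q, hq⟩ := hd
    rw [← hq, ← hk ⟨⟨0, hne.card_pos⟩⟩, ← Scheme.Hom.comp_apply, Category.assoc, hφ, subtype_fromLocal]
    rw [show q = closedPoint X.functionField from Subsingleton.elim (α := PrimeSpectrum X.functionField) _ _]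
    exact Scheme.fromSpecStalk_closedPoint
  obtain ⟨U, hU, hsU⟩ := S7660.result φ (by rw [irreducibleComponents_eq_singleton]; exact Set.finite_singleton _)
    (fun η hη => by
      rw [hgenC η hη, irreducibleComponents_eq_singleton, Set.mem_singleton_iff]
      show closure {φ (genericPoint C)} = _
      rw [hφgen]
      exact genericPoint_spec X)
    (fun η η' hη hη' _ => (hgenC η hη).trans (hgenC η' hη').symm)
    (Finset.univ.image t) (fun z hz => by
      obtain ⟨k, -, rfl⟩ := Finset.mem_image.1 hz
      exact htiso k)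
  refine ⟨U, hU, fun x hx => ?_⟩
  have hptU : ∀ k : Fin r, pt k ∈ U := fun k => ht ⟨k⟩ ▸ hsU _ (Finset.mem_image_of_mem t (Finset.mem_univ _))
  by_cases hxg : x = genericPoint X
  · rw [hxg]
    exact hgen U ⟨pt ⟨0, hne.card_pos⟩, hptU _⟩
  · have := hptU (s'.equivFin ⟨x, Finset.mem_erase.2 ⟨hxg, hx⟩⟩)
    simpa [pt] using this

end Groth.Agent.CurveFin
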